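import Cfsg.Agent.H316.HT.Defs
import Cfsg.Agent.H656.OverPrincipal
import Cfsg.Agent.H700.PrinExt
import Cfsg.Agent.H816.OutEmb
import Cfsg.Agent.H709.PB.Deg
import Cfsg.Agent.S0887

/-!
# S4933: groups without outer `p`-automorphisms, from one character (helper488)

* `goodOn_of_theta` : `p ∤ |A : N|`, `θ ∈ B₀(N)`, `1 ≤ vd p θ ≤ a`: `GoodOn p a M N`;
* `row_of_one` : `p ∤ |Out S|` and, for every `M`, a character `θ ∈ B₀(S)` with `vd p θ = 1`: `Row p S`;
* `row_of_nb` : `p ∤ |Out S|`, a degree `d` with `p ∥ d` and `NB p 2 S`: `Row p S`.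
-/

set_option autoImplicit false

open Subgroup

namespace Cfsg.Agent.H488.HT

open Cfsg Cfsg.Agent.H316.HT

universe u

section

variable {A : Type u} [Group A] [Finite A] {p : ℕ} [hp : Fact p.Prime] {M : Ideal AlgInt}

theorem goodOn_of_theta (hM : IsPModular p M) (N : Subgroup A) [N.Normal] (hidx : ¬ p ∣ N.index) {a : ℕ}
    (θ : IrrCharacter N) (hθ : θ ∈ principalBlock M N) (h0 : 0 < vd p (θ : N → ℂ)) (ha : vd p (θ : N → ℂ) ≤ a) :
    GoodOn p a M N := by
  classical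
  have := Fintype.ofFinite A
  have := Fintype.ofFinite N
  obtain ⟨P⟩ : Nonempty (Sylow p A) := inferInstance
  obtain ⟨χ, hχ, hin⟩ := H656.OverPrincipal.exists_over hM N P (by rw [Subgroup.normalizer_eq_top]; exact le_top) θ hθ
  obtain ⟨hd, hi⟩ := S0887.result N (χ : A → ℂ) χ.2 (θ : N → ℂ) θ.2 hin (charDegree (χ : A → ℂ))
    (charDegree (θ : N → ℂ)) (Blocks.Basic.irr_one_eq_charDegree χ.2) (Blocks.Basic.irr_one_eq_charDegree θ.2)
  have hθ0 : charDegree (θ : N → ℂ) ≠ 0 := (Blocks.Basic.charDegree_pos θ.2).ne'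
  have hχ0 : charDegree (χ : A → ℂ) ≠ 0 := (Blocks.Basic.charDegree_pos χ.2).ne'
  have hvd : vd p (χ : A → ℂ) = vd p (θ : N → ℂ) := by
    unfold vd
    obtain ⟨k, hk⟩ := hd
    have hk0 : k ≠ 0 := by
      rintro rfl
      exact hχ0 (by rw [hk, mul_zero])
    have hkd : k ∣ N.index := by
      rw [hk, Nat.mul_div_cancel_left _ (Nat.pos_of_ne_zero hθ0)] at hi
      exact hi
    rw [hk, Nat.factorization_mul hθ0 hk0, Finsupp.add_apply,
      Nat.factorization_eq_zero_of_not_dvd (fun h => hidx (h.trans hkd)), add_zero]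
  refine ⟨χ, hχ, ?_, by rw [hvd]; exact h0, by rw [hvd]; exact ha⟩
  by_contra hcon
  push Not at hcon
  apply hin
  have hne : (1 : N → ℂ) ≠ (θ : N → ℂ) := by
    intro h
    have h1 : charDegree (θ : N → ℂ) = 1 := by
      have h2 := Blocks.Basic.irr_one_eq_charDegree θ.2
      have h3 : (θ : N → ℂ) 1 = 1 := by rw [← h]; rfl
      rw [h3] at h2
      exact_mod_cast h2.symm
    unfold vd at h0
    rw [h1] at h0
    simp at h0
  have h1 : (fun n : N => (χ : A → ℂ) n) = (χ : A → ℂ) 1 • (1 : N → ℂ) := by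
    funext n
    rw [Pi.smul_apply, Pi.one_apply, smul_eq_mul, mul_one]
    exact hcon n n.2
  rw [h1, Characters.Core.classInner_smul_left,
    Characters.Core.classInner_irr_ne Characters.Core.isIrr_one θ.2 hne, mul_zero]

end

/-- **The row from characters of the principal block of `S`**, `p ∤ |Out S|`. -/
theorem row_of_one {p : ℕ} [hp : Fact p.Prime] {S : Type*} [Group S] (hout : ¬ p ∣ Nat.card (Cfsg.Out S))
    (h : ∀ M : Ideal AlgInt, IsPModular p M → ∃ χ : IrrCharacter S, χ ∈ principalBlock M S ∧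
      vd p (χ : S → ℂ) = 1) : Row p S := by
  intro A _ _ N _ ⟨e⟩ hc M hM P a ha _
  obtain ⟨θ, hθ, hv⟩ := h M hM
  have hidx : ¬ p ∣ N.index := by
    intro h1
    obtain ⟨f⟩ := H816.OutEmb.out_congr e
    have h2 := H816.OutEmb.index_dvd N (by rw [hc]; exact bot_le)
    rw [Nat.card_congr f.toEquiv] at h2
    exact hout (h1.trans h2)
  have hv' : vd p (H700.PrinExt.mapIrr e θ : N → ℂ) = 1 := by
    unfold vd
    rw [H700.PrinExt.charDegree_mapIrr]
    exact hv
  exact goodOn_of_theta hM N hidx (H700.PrinExt.mapIrr e θ) (H700.PrinExt.mapIrr_mem e hθ)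
    (by rw [hv']; exact Nat.one_pos) (by rw [hv']; exact ha)

/-- **The row from a degree**: `p ∥ d` and `NB p 2 S`, `p ∤ |Out S|`. -/
theorem row_of_nb {p : ℕ} [hp : Fact p.Prime] {S : Type u} [Group S] [Finite S] (hout : ¬ p ∣ Nat.card (Cfsg.Out S))
    (hnb : H709.PB.NB p 2 S) (hd : ∃ χ : IrrCharacter S, p ∣ charDegree (χ : S → ℂ) ∧
      ¬ p ^ 2 ∣ charDegree (χ : S → ℂ)) : Row p S := by
  obtain ⟨χ, h1, h2⟩ := hd
  refine row_of_one hout fun M hM => ⟨χ, ?_, ?_⟩
  · by_contra hcon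
    exact h2 (hnb M hM χ hcon)
  · have h0 : charDegree (χ : S → ℂ) ≠ 0 := (Blocks.Basic.charDegree_pos χ.2).ne'
    have h3 := (hp.out.dvd_iff_one_le_factorization h0).1 h1
    have h4 : ¬ 2 ≤ (charDegree (χ : S → ℂ)).factorization p := fun h5 =>
      h2 ((hp.out.pow_dvd_iff_le_factorization h0).2 h5)
    unfold vd
    omega

/-- the row depends only on the isomorphism type -/
theorem row_congr {p : ℕ} {S : Type*} {T : Type*} [Group S] [Group T] (e : S ≃* T) (h : Row p T) : Row p S := by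
  intro A _ _ N _ ⟨f⟩ hc M hM P a ha hcd
  exact h A N ⟨f.trans e⟩ hc M hM P a ha hcd

end Cfsg.Agent.H488.HT
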